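import Cfsg.Agent.Balance.PComp
import Cfsg.Agent.SylowFixing.TwoLocal

/-!
# Components of even order of 2-local subgroups
-/

set_option autoImplicit false

namespace CfsgLib.InvComp

open Subgroup
open CfsgLib.Components (pElems_eq_self_of_isQuasisimple)

/-- A component of order divisible by `p` is a `p`-component. -/
theorem isPComponent_of_isComponent {H : Type*} [Group H] [Finite H] {p : ℕ} [Fact p.Prime]
    {K : Subgroup H} (hK : Cfsg.IsComponent K) (hp : p ∣ Nat.card K) : Cfsg.IsPComponent p K := by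
  set f := QuotientGroup.mk' (Cfsg.pPrimeCore p H)
  have hr : (f.comp K.subtype).range = K.map f := by rw [MonoidHom.range_comp, range_subtype]
  refine CfsgLib.Balance.isPComponent_iff_pElems.mpr
    ⟨hK.1, ⟨hK.1.quotient, ?_⟩, pElems_eq_self_of_isQuasisimple hK.2 hp⟩
  rw [← hr]
  refine CfsgLib.Balance.isQuasisimple_range _ hK.2 fun h => ?_
  rw [hr, Subgroup.map_eq_bot_iff, QuotientGroup.ker_mk'] at h
  exact (Fact.out : p.Prime).ne_one (Nat.eq_one_of_dvd_coprimes
    ((CfsgLib.PLocal.coprime_card_pPrimeCore p H).coprime_dvd_left (card_dvd_of_le h)) hp dvd_rfl)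

/-- An even component of the centralizer of a 2-subgroup lies in the 2-layer. -/
theorem le_pLayer_of_isComponent_centralizer {X : Type*} [Group X] [Finite X]
    {R K : Subgroup X} (hR : IsPGroup 2 R) (hKR : K ≤ centralizer (R : Set X))
    (hK : Cfsg.IsComponent (K.subgroupOf (centralizer (R : Set X)))) (h2 : 2 ∣ Nat.card K) :
    K ≤ Cfsg.pLayer 2 X := by
  haveI : Fact (Nat.Prime 2) := ⟨Nat.prime_two⟩
  have h2' : 2 ∣ Nat.card (K.subgroupOf (centralizer (R : Set X))) := by
    rwa [Nat.card_congr (subgroupOfEquivOfLe hKR).toEquiv]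
  have h := CfsgLib.Balance.map_subtype_pComponent_le_pLayer_two hR le_rfl (centralizer_le_normalizer _)
    (Or.inr rfl) (isPComponent_of_isComponent hK h2')
  rwa [map_subgroupOf_eq_of_le hKR] at h

end CfsgLib.InvComp
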