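import Cfsg.Agent.Components.Layer
import Cfsg.Agent.Coprime.Basic
import Cfsg.Agent.Balance.PComp

/-!
# Components of the centralizer of an involution lying in the layer

`component_cases`: a component `L` of `C(t)` lying in `E(X)` is inside a `t`-invariant component
`D`, or is the diagonal of `D ⊔ D^t` for a component `D` moved by `t`.
-/

set_option autoImplicit false

namespace CfsgLib.InvComp

open Subgroup
open scoped commutatorElement
open CfsgLib.Components (IsComponent.le_layer IsComponent.conj IsComponent.commutator_eq_self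
  IsComponent.not_commute IsComponent.le_or_commutator_eq_bot_of_le_normalizer
  sSup_le_centralizer_of_notMem layer_le_normalizer_sSup IsComponent.commutator_eq_bot_of_ne)

variable {X : Type*} [Group X]

theorem map_conj_conj {t : X} (ht : t * t = 1) (D : Subgroup X) :
    (D.map (MulAut.conj t).toMonoidHom).map (MulAut.conj t).toMonoidHom = D := by
  rw [map_map]
  convert Subgroup.map_id D using 2
  ext x
  simp only [MonoidHom.comp_apply, MulEquiv.coe_toMonoidHom, MulAut.conj_apply, MonoidHom.id_apply]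
  calc t * (t * x * t⁻¹) * t⁻¹ = (t * t) * x * (t * t)⁻¹ := by group
    _ = x := by rw [ht]; group

theorem mem_normalizer_of_map_conj_le [Finite X] {P : Subgroup X} {c : X}
    (h : P.map (MulAut.conj c).toMonoidHom ≤ P) : c ∈ normalizer (P : Set X) :=
  mem_normalizer_iff_map_conj_eq.mpr
    (eq_of_le_of_card_ge h (card_map_of_injective (MulAut.conj c).injective).ge)

variable [Finite X]

/-- A component of `C(t)` in a product of components lies in the product over one `t`-orbit. -/
theorem exists_orbit {t : X} (ht : t * t = 1) {L : Subgroup X}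
    (hL : Cfsg.IsComponent (L.subgroupOf (centralizer ({t} : Set X))))
    (hLt : L ≤ centralizer ({t} : Set X)) :
    ∀ (n : ℕ) (S : Set (Subgroup X)), S.ncard = n → (∀ D ∈ S, Cfsg.IsComponent D) →
      (∀ D ∈ S, D.map (MulAut.conj t).toMonoidHom ∈ S) → L ≤ sSup S →
      ∃ D ∈ S, L ≤ D ⊔ D.map (MulAut.conj t).toMonoidHom := by
  set Ct := centralizer ({t} : Set X) with hCt
  have hLperf : ⁅L, L⁆ = L := by
    have h := IsComponent.commutator_eq_self hL
    have h' := congrArg (Subgroup.map Ct.subtype) h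
    rwa [map_commutator, map_subgroupOf_eq_of_le hLt] at h'
  have hLne : ⁅L, L⁆ ≠ ⊥ := by
    intro h
    apply IsComponent.not_commute hL
    apply map_injective Ct.subtype_injective
    rw [map_commutator, map_subgroupOf_eq_of_le hLt, h, Subgroup.map_bot]
  intro n
  induction n using Nat.strong_induction_on with
  | _ n ih =>
  intro S hn hS hSt hLS
  rcases S.eq_empty_or_nonempty with rfl | ⟨D, hD⟩
  · refine absurd ?_ hLne
    rw [sSup_empty, le_bot_iff] at hLS
    rw [hLS]; exact commutator_bot_left _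
  set Dt := D.map (MulAut.conj t).toMonoidHom with hDt
  set S₂ := S \ {D, Dt} with hS₂
  have hS₂c : ∀ K ∈ S₂, Cfsg.IsComponent K := fun K hK => hS K hK.1
  have hS₂t : ∀ K ∈ S₂, K.map (MulAut.conj t).toMonoidHom ∈ S₂ := by
    rintro K ⟨hK, hne⟩
    refine ⟨hSt K hK, ?_⟩
    rintro (h | h)
    · exact hne (Or.inr (by rw [hDt, ← h, map_conj_conj ht, Set.mem_singleton_iff]))
    · rw [Set.mem_singleton_iff] at h
      exact hne (Or.inl (map_injective (MulAut.conj t).injective h))
  set P := D ⊔ Dt with hP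
  set Q := sSup S₂ with hQ
  have hPQc : Q ≤ centralizer (P : Set X) := by
    refine le_centralizer_iff.mp (sup_le ?_ ?_)
    · exact le_centralizer_iff.mp (sSup_le_centralizer_of_notMem hS₂c (hS D hD)
        fun h => h.2 (Or.inl rfl))
    · exact le_centralizer_iff.mp (sSup_le_centralizer_of_notMem hS₂c (hS Dt (hSt D hD))
        fun h => h.2 (Or.inr rfl))
  have hSPQ : sSup S ≤ P ⊔ Q := sSup_le fun K hK => by
    by_cases h : K = D
    · exact le_sup_of_le_left (h ▸ le_sup_left)
    by_cases h' : K = Dt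
    · exact le_sup_of_le_left (h' ▸ le_sup_right)
    exact le_sup_of_le_right (le_sSup ⟨hK, by simp [h, h']⟩)
  have htP : t ∈ normalizer (P : Set X) := mem_normalizer_of_map_conj_le (by
    rw [hP, Subgroup.map_sup, hDt, map_conj_conj ht, sup_comm])
  have htQ : t ∈ normalizer (Q : Set X) := mem_normalizer_of_map_conj_le (by
    rw [map_le_iff_le_comap]
    exact sSup_le fun K hK => map_le_iff_le_comap.mp (le_sSup (hS₂t K hK)))
  have hPE : Cfsg.layer X ≤ normalizer (P : Set X) := by
    have h := layer_le_normalizer_sSup (S := {D, Dt}) (by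
      rintro K (rfl | rfl)
      exacts [hS _ hD, hS _ (hSt _ hD)])
    rwa [sSup_pair] at h
  set E := Cfsg.layer X
  set N₁ := (P ⊓ Ct).subgroupOf Ct
  set N₂ := (Q ⊓ Ct).subgroupOf Ct
  set M := (E ⊓ Ct).subgroupOf Ct
  have hdich : ∀ R : Subgroup X, E ≤ normalizer (R : Set X) → R ≤ E →
      L ≤ R ⊓ Ct ∨ ⁅L, R ⊓ Ct⁆ = ⊥ := by
    intro R hR hRE
    have hLM : L.subgroupOf Ct ≤ (E ⊓ Ct).subgroupOf Ct := comap_mono (le_inf
      (hLS.trans (sSup_le fun K hK => IsComponent.le_layer (hS K hK))) hLt)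
    have hn : (E ⊓ Ct).subgroupOf Ct ≤ normalizer (((R ⊓ Ct).subgroupOf Ct : Subgroup Ct) : Set Ct) := by
      intro m hm
      exact le_normalizer_comap Ct.subtype ((le_inf (inf_le_left.trans hR)
        (inf_le_right.trans le_normalizer)).trans inf_normalizer_le_normalizer_inf
          (mem_subgroupOf.mp hm) : (m : X) ∈ normalizer ((R ⊓ Ct : Subgroup X) : Set X))
    rcases IsComponent.le_or_commutator_eq_bot_of_le_normalizer hL hLM
      (comap_mono (inf_le_inf_right _ hRE)) hn with h | h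
    · left
      intro x hx
      exact h (x := ⟨x, hLt hx⟩) hx
    · right
      have h' := congrArg (Subgroup.map Ct.subtype) h
      rwa [map_commutator, map_subgroupOf_eq_of_le hLt, map_comap_eq, range_subtype,
        inf_of_le_right inf_le_right, Subgroup.map_bot] at h'
  have hPleE : P ≤ E := sup_le (IsComponent.le_layer (hS D hD)) (IsComponent.le_layer (hS Dt (hSt D hD)))
  rcases hdich P hPE hPleE with h | h
  · exact ⟨D, hD, h.trans inf_le_left⟩
  rcases hdich Q (layer_le_normalizer_sSup hS₂c)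
    (sSup_le fun K hK => IsComponent.le_layer (hS₂c K hK)) with h2 | h2
  · have hlt : S₂.ncard < n := hn ▸ Set.ncard_lt_ncard
      ⟨fun K hK => hK.1, fun hle => (hle hD).2 (Or.inl rfl)⟩
    obtain ⟨D', hD', h3⟩ := ih _ hlt S₂ rfl hS₂c hS₂t (h2.trans inf_le_left)
    exact ⟨D', hD'.1, h3⟩
  -- then `L = [L, L]` would centralise itself
  exfalso
  apply hLne
  have hc1 : (P ⊓ Ct) ⊔ (Q ⊓ Ct) ≤ centralizer (L : Set X) := sup_le
    (commutator_eq_bot_iff_le_centralizer.mp (by rwa [commutator_comm]))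
    (commutator_eq_bot_iff_le_centralizer.mp (by rwa [commutator_comm]))
  have hkey : L ≤ centralizer (L : Set X) := by
    refine le_trans ?_ hc1
    rw [← hLperf]
    refine commutator_le.mpr fun x hx y hy => ?_
    obtain ⟨p, hp, s, hs, rfl⟩ := CfsgLib.Coprime.exists_mul_of_mem_sup
      (hPQc.trans (centralizer_le_normalizer _)) (hSPQ (hLS hx))
    obtain ⟨q, hq, r, hr, rfl⟩ := CfsgLib.Coprime.exists_mul_of_mem_sup
      (hPQc.trans (centralizer_le_normalizer _)) (hSPQ (hLS hy))
    -- `t` moves `p` and `s` by central elements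
    have hfix : ∀ p ∈ P, ∀ s ∈ Q, p * s ∈ Ct →
        p⁻¹ * (t * p * t⁻¹) ∈ P ⊓ centralizer (P : Set X) ∧
        s⁻¹ * (t * s * t⁻¹) ∈ Q ⊓ centralizer (Q : Set X) := by
      intro p hp s hs hps
      have hp' : t * p * t⁻¹ ∈ P := (mem_normalizer_iff.mp htP p).mp hp
      have hs' : t * s * t⁻¹ ∈ Q := (mem_normalizer_iff.mp htQ s).mp hs
      have e : p⁻¹ * (t * p * t⁻¹) = s * (t * s * t⁻¹)⁻¹ := by
        have h0 : (t * p * t⁻¹) * (t * s * t⁻¹) = p * s := by
          rw [show t * p * t⁻¹ * (t * s * t⁻¹) = t * (p * s) * t⁻¹ by group,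
            ← mem_centralizer_singleton_iff.mp hps]
          group
        calc p⁻¹ * (t * p * t⁻¹) = p⁻¹ * ((t * p * t⁻¹) * (t * s * t⁻¹)) * (t * s * t⁻¹)⁻¹ := by group
          _ = _ := by rw [h0]; group
      have hQ' : p⁻¹ * (t * p * t⁻¹) ∈ Q := e ▸ mul_mem hs (inv_mem hs')
      refine ⟨mem_inf.mpr ⟨mul_mem (inv_mem hp) hp', hPQc hQ'⟩,
        mem_inf.mpr ⟨mul_mem (inv_mem hs) hs', ?_⟩⟩
      have h1 : p⁻¹ * (t * p * t⁻¹) ∈ centralizer (Q : Set X) :=
        le_centralizer_iff.mp hPQc (mul_mem (inv_mem hp) hp')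
      have h2 : s⁻¹ * (t * s * t⁻¹) = (s⁻¹ * (p⁻¹ * (t * p * t⁻¹)) * s)⁻¹ := by rw [e]; group
      rw [h2]
      refine inv_mem ?_
      rw [mul_assoc, ← mem_centralizer_iff.mp h1 s hs, inv_mul_cancel_left]
      exact h1
    obtain ⟨hpz, hsz⟩ := hfix p hp s hs (hLt hx)
    obtain ⟨hqz, hrz⟩ := hfix q hq r hr (hLt hy)
    have hcomm : ∀ R : Subgroup X, t ∈ normalizer (R : Set X) → ∀ a ∈ R, ∀ b ∈ R,
        a⁻¹ * (t * a * t⁻¹) ∈ centralizer (R : Set X) →
        b⁻¹ * (t * b * t⁻¹) ∈ centralizer (R : Set X) → ⁅a, b⁆ ∈ R ⊓ Ct := by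
      intro R htR a ha b hb hza hzb
      have hab : ⁅a, b⁆ ∈ R := by
        rw [commutatorElement_def]
        exact mul_mem (mul_mem (mul_mem ha hb) (inv_mem ha)) (inv_mem hb)
      refine ⟨hab, mem_centralizer_singleton_iff.mpr ?_⟩
      set z := a⁻¹ * (t * a * t⁻¹) with hz
      set w := b⁻¹ * (t * b * t⁻¹) with hw
      have hzR : ∀ x ∈ R, x * z = z * x := fun x hx => mem_centralizer_iff.mp hza x hx
      have hwR : ∀ x ∈ R, x * w = w * x := fun x hx => mem_centralizer_iff.mp hzb x hx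
      have hbw : z * (b * w) = (b * w) * z :=
        (hzR _ (mul_mem hb (mul_mem (inv_mem hb) ((mem_normalizer_iff.mp htR b).mp hb)))).symm
      have h : t * ⁅a, b⁆ * t⁻¹ = ⁅a, b⁆ := by
        calc t * ⁅a, b⁆ * t⁻¹ = ⁅a * z, b * w⁆ := by
              simp only [hz, hw, commutatorElement_def]; group
          _ = a * (z * (b * w)) * z⁻¹ * a⁻¹ * w⁻¹ * b⁻¹ := by
              simp only [commutatorElement_def]; group
          _ = a * b * (w * a⁻¹) * w⁻¹ * b⁻¹ := by rw [hbw]; group
          _ = ⁅a, b⁆ := by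
              rw [← hwR a⁻¹ (inv_mem ha), commutatorElement_def]; group
      exact (mul_inv_eq_iff_eq_mul.mp h).symm
    have e : ⁅p * s, q * r⁆ = ⁅p, q⁆ * ⁅s, r⁆ := by
      have c1 : Commute s q := mem_centralizer_iff.mp (hPQc hs) q hq |>.symm
      have c2 : Commute r p := mem_centralizer_iff.mp (hPQc hr) p hp |>.symm
      have c3 : Commute s p := mem_centralizer_iff.mp (hPQc hs) p hp |>.symm
      have c4 : Commute r q := mem_centralizer_iff.mp (hPQc hr) q hq |>.symm
      simp only [commutatorElement_def, mul_inv_rev]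
      calc p * s * (q * r) * (s⁻¹ * p⁻¹) * (r⁻¹ * q⁻¹)
          = p * (s * q) * r * s⁻¹ * p⁻¹ * r⁻¹ * q⁻¹ := by group
        _ = p * q * (s * r * s⁻¹) * p⁻¹ * r⁻¹ * q⁻¹ := by rw [c1.eq]; group
        _ = p * q * p⁻¹ * (s * r * s⁻¹ * r⁻¹) * q⁻¹ := by
          rw [mul_assoc (p * q), ((c3.mul_left c2).mul_left c3.inv_left).inv_right.eq]
          simp only [mul_assoc]
        _ = _ := by
          rw [mul_assoc (p * q * p⁻¹), ((((c1.mul_left c4).mul_left c1.inv_left).mul_left
            c4.inv_left).inv_right).eq, ← mul_assoc]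
    rw [e]
    exact mul_mem_sup (hcomm P htP p hp q hq hpz.2 hqz.2) (hcomm Q htQ s hs r hr hsz.2 hrz.2)
  exact commutator_eq_bot_iff_le_centralizer.mpr hkey

/-- The diagonal homomorphism of a component moved by `t`. -/
def diagHom {t : X} {D : Subgroup X}
    (hcom : ∀ a ∈ D, ∀ b ∈ D.map (MulAut.conj t).toMonoidHom, Commute a b) : D →* X where
  toFun d := (d : X) * (t * (d : X) * t⁻¹)
  map_one' := by simp
  map_mul' a b := by
    have h := hcom (b : X) b.2 (t * (a : X) * t⁻¹) ⟨a, a.2, by simp⟩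
    simp only [Subgroup.coe_mul]
    calc (a : X) * b * (t * ((a : X) * b) * t⁻¹)
        = (a : X) * ((b : X) * (t * a * t⁻¹)) * (t * b * t⁻¹) := by group
      _ = _ := by rw [h.eq]; group

/-- The two possibilities for a component of `C(t)` contained in the layer. -/
theorem component_cases {t : X} (ht : t * t = 1) {L : Subgroup X} (hLt : L ≤ centralizer ({t} : Set X))
    (hL : Cfsg.IsComponent (L.subgroupOf (centralizer ({t} : Set X)))) (hlay : L ≤ Cfsg.layer X) :
    ∃ D : Subgroup X, Cfsg.IsComponent D ∧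
      ((D.map (MulAut.conj t).toMonoidHom = D ∧ L ≤ D) ∨
        (D.map (MulAut.conj t).toMonoidHom ≠ D ∧
          ∃ φ : D →* X, (∀ d : D, φ d = (d : X) * (t * (d : X) * t⁻¹)) ∧ φ.range = L)) := by
  obtain ⟨D, hD, hLP⟩ := exists_orbit ht hL hLt _ {D : Subgroup X | Cfsg.IsComponent D} rfl
    (fun _ h => h) (fun D h => IsComponent.conj h t) hlay
  refine ⟨D, hD, ?_⟩
  set Dt := D.map (MulAut.conj t).toMonoidHom with hDt
  by_cases hfix : Dt = D
  · exact Or.inl ⟨hfix, by rwa [hfix, sup_idem] at hLP⟩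
  refine Or.inr ⟨hfix, ?_⟩
  have hbot := IsComponent.commutator_eq_bot_of_ne hD (IsComponent.conj hD t) (Ne.symm hfix)
  have hc := commutator_eq_bot_iff_le_centralizer.mp hbot
  have hcom : ∀ a ∈ D, ∀ b ∈ Dt, Commute a b := fun a ha b hb =>
    (mem_centralizer_iff.mp (hc ha) b hb).symm
  set φ := diagHom hcom with hφ
  refine ⟨φ, fun d => rfl, ?_⟩
  set Ct := centralizer ({t} : Set X)
  have htt : t⁻¹ = t := inv_eq_of_mul_eq_one_right ht
  have hrC : φ.range ≤ Ct := by
    rintro _ ⟨d, rfl⟩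
    refine mem_centralizer_singleton_iff.mpr ?_
    have h := (hcom d d.2 (t * (d : X) * t⁻¹) ⟨d, d.2, by simp⟩).eq
    show (d : X) * (t * d * t⁻¹) * t = t * ((d : X) * (t * d * t⁻¹))
    calc (d : X) * (t * d * t⁻¹) * t = t * d * t⁻¹ * d * t := by rw [h]
      _ = t * d * t * d * t⁻¹ := by rw [htt]
      _ = _ := by rw [htt]; group
  have hLperf : ⁅L, L⁆ = L := by
    have h := IsComponent.commutator_eq_self hL
    have h' := congrArg (Subgroup.map Ct.subtype) h
    rwa [map_commutator, map_subgroupOf_eq_of_le hLt] at h'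
  -- `L` lies in the diagonal
  have hle : L ≤ φ.range := by
    rw [← hLperf]
    refine commutator_le.mpr fun x hx y hy => ?_
    have hdec : ∀ x ∈ L, ∃ r ∈ φ.range, ∃ z, z ∈ centralizer ((D ⊔ Dt : Subgroup X) : Set X) ∧
        x = r * z ∧ r ∈ D ⊔ Dt := by
      intro x hx
      obtain ⟨a, ha, b, hb, rfl⟩ := CfsgLib.Coprime.exists_mul_of_mem_sup
        ((le_centralizer_iff.mp hc).trans (centralizer_le_normalizer _)) (hLP hx)
      set a' := t * a * t⁻¹ with ha'
      have ha'D : a' ∈ Dt := ⟨a, ha, by simp [ha']⟩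
      set z := a'⁻¹ * b with hz
      have hzt : z ∈ Dt := mul_mem (inv_mem ha'D) hb
      have hb' : t * b * t⁻¹ ∈ D := by
        obtain ⟨e, he, rfl⟩ := hb
        have h2 : t * ((MulAut.conj t) e) * t⁻¹ = e := by
          simp only [MulAut.conj_apply, htt]
          calc t * (t * e * t) * t = (t * t) * e * (t * t) := by group
            _ = e := by rw [ht]; group
        show t * (MulAut.conj t) e * t⁻¹ ∈ D
        rw [h2]; exact he
      have h0 : a' * (t * b * t⁻¹) = a * b := by
        rw [ha', show t * a * t⁻¹ * (t * b * t⁻¹) = t * (a * b) * t⁻¹ by group,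
          ← mem_centralizer_singleton_iff.mp (hLt hx)]
        group
      have hzD : z ∈ D := by
        have e : z = a⁻¹ * (t * b * t⁻¹) := by
          rw [(hcom _ hb' a' ha'D).symm.eq] at h0
          calc z = a'⁻¹ * (a⁻¹ * (a * b)) := by rw [hz]; group
            _ = a'⁻¹ * (a⁻¹ * ((t * b * t⁻¹) * a')) := by rw [h0]
            _ = a'⁻¹ * ((a⁻¹ * (t * b * t⁻¹)) * a') := by group
            _ = _ := by rw [(hcom _ (mul_mem (inv_mem ha) hb') a' ha'D).eq, inv_mul_cancel_left]
        exact e ▸ mul_mem (inv_mem ha) hb'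
      refine ⟨a * a', ⟨⟨a, ha⟩, rfl⟩, z, ?_, by rw [hz]; group,
        mul_mem (mem_sup_left ha) (mem_sup_right ha'D)⟩
      exact le_centralizer_iff.mp (sup_le
        (le_centralizer_iff.mp (zpowers_le.mpr (le_centralizer_iff.mp hc hzt)))
        (le_centralizer_iff.mp (zpowers_le.mpr (hc hzD)))) (mem_zpowers z)
    obtain ⟨r, hr, z, hz, rfl, hrP⟩ := hdec x hx
    obtain ⟨s, hs, w, hw, rfl, hsP⟩ := hdec y hy
    have hwP : w ∈ D ⊔ Dt := by
      have h := mul_mem (inv_mem hsP) (hLP hy)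
      rwa [inv_mul_cancel_left] at h
    have e : ⁅r * z, s * w⁆ = ⁅r, s⁆ := by
      have hzs := mem_centralizer_iff.mp hz (s * w) (mul_mem hsP hwP)
      have hwr := mem_centralizer_iff.mp hw (r⁻¹) (inv_mem hrP)
      simp only [commutatorElement_def, mul_inv_rev]
      calc r * z * (s * w) * (z⁻¹ * r⁻¹) * (w⁻¹ * s⁻¹)
          = r * (z * (s * w)) * z⁻¹ * r⁻¹ * w⁻¹ * s⁻¹ := by group
        _ = r * s * (w * r⁻¹) * w⁻¹ * s⁻¹ := by rw [← hzs]; group
        _ = _ := by rw [← hwr]; group
    rw [e, commutatorElement_def]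
    exact mul_mem (mul_mem (mul_mem hr hs) (inv_mem hr)) (inv_mem hs)
  -- the diagonal is quasisimple
  have hLne : L ≠ ⊥ := fun h => CfsgLib.Components.IsComponent.ne_bot hL (by rw [h, bot_subgroupOf])
  have hne : φ.range ≠ ⊥ := fun h => hLne (eq_bot_iff.mpr (h ▸ hle))
  have hqs := CfsgLib.Balance.isQuasisimple_range φ hD.2 hne
  have hsn : (L.subgroupOf φ.range).IsSubnormal := by
    have h2 : ((L.subgroupOf Ct).comap (inclusion hrC)).IsSubnormal := hL.1.comap _
    exact h2
  rcases CfsgLib.Components.IsQuasisimple.subnormal_eq_top_or_le_center hqs _ hsn with h | h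
  · exact le_antisymm (subgroupOf_eq_top.mp h) hle
  · exfalso
    apply hLne
    rw [← hLperf, commutator_eq_bot_iff_le_centralizer]
    exact fun x hx y hy => congrArg Subtype.val
      (mem_center_iff.mp (h (x := ⟨x, hle hx⟩) hx) ⟨y, hle hy⟩)

end CfsgLib.InvComp
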